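import Groth.Agent.QGor6.SkDual
import Groth.Agent.RGammaI.DualRows
import Groth.Agent.LC.CanonBasic
import Groth.Agent.LC.DepthLoc
import Groth.Agent.S1717
import Groth.Agent.S1721

/-!
# The dualizing module of an `S₂` local ring
-/

set_option linter.style.haveILetI false
set_option maxHeartbeats 1000000
set_option autoImplicit false
set_option backward.isDefEq.respectTransparency false

universe u

open CategoryTheory CategoryTheory.Limits Pretriangulated

attribute [local instance] HasDerivedCategory.standard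

namespace Groth.Agent.QGor6.DualModule

open Groth.Agent.KFlatLib Groth.Agent.RGammaI

variable {A : Type u} [CommRing A] [IsNoetherianRing A] {ω : Dual.D A}

/-- Maps into a dualizing complex vanish from a bounded complex whose cohomology is supported in high degree. -/
theorem subsingleton_hom_of_support {n : PrimeSpectrum A → ℤ} (hn : IsExtDegree ω n) (t : ℤ) :
    ∀ (k : ℕ) (Z : Dual.D A) (a c : ℤ), Z.IsGE a → Z.IsLE c → c - a < k →
      (∀ m, Module.Finite A (Dual.HD A Z m)) →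
      (∀ (m : ℤ) (P : PrimeSpectrum A), P ∈ Module.support A (Dual.HD A Z m) → t + m < n P) →
      Subsingleton (Z ⟶ ω⟦t⟧) := by
  intro k
  induction k with
  | zero =>
    intro Z a c ha hc hlt _ _
    haveI := ha
    haveI := hc
    have hz : IsZero Z := (IsZero.iff_id_eq_zero _).2
      (DerivedCategory.TStructure.t.zero (𝟙 Z) c a (by push_cast at hlt; omega))
    exact subsingleton_of_forall_eq 0 fun f => hz.eq_of_src f 0
  | succ k ih =>
    intro Z a c ha hc hlt hfin hs
    haveI := ha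
    haveI := hc
    obtain ⟨T, hT, rfl, h₁, h₃, hf₁, hf₃, hg₁, hl₃⟩ := exists_trunc_finite hfin (c - 1)
    haveI := h₁
    haveI : T.obj₃.IsGE c := by rw [sub_add_cancel] at h₃; exact h₃
    haveI := hl₃ c hc
    let H := fun j => DerivedCategory.homologyFunctor (ModuleCat.{u} A) j
    have s₁ : Subsingleton (T.obj₁ ⟶ ω⟦t⟧) := ih T.obj₁ a (c - 1) (hg₁ a ha) h₁
      (by push_cast at hlt; omega) hf₁ fun m P hP => by
        by_cases hm : m ≤ c - 1
        · haveI := (DerivedCategory.HomologySequence.mono_homologyMap_mor₁_iff _ hT (m - 1) m (by omega)).2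
            ((DerivedCategory.isZero_of_isGE T.obj₃ c (m - 1) (by omega)).eq_of_src _ _)
          exact hs m P (Module.support_subset_of_injective ((H m).map T.mor₁).hom
            ((ModuleCat.mono_iff_injective _).1 inferInstance) hP)
        · haveI := ModuleCat.subsingleton_of_isZero (DerivedCategory.isZero_of_isLE T.obj₁ (c - 1) m (by omega))
          rw [Module.support_eq_empty] at hP
          exact hP.elim
    haveI := (DerivedCategory.HomologySequence.epi_homologyMap_mor₂_iff _ hT c (c + 1) rfl).2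
      ((DerivedCategory.isZero_of_isLE T.obj₁ (c - 1) (c + 1) (by omega)).eq_of_tgt _ _)
    obtain ⟨u⟩ := H9Misc.nonempty_iso_single_homology c T.obj₃
    let N := (H c).obj T.obj₃
    haveI : Module.Finite A N := hf₃ c
    let v : T.obj₃ ≅ (Dual.inD A N)⟦-c⟧ := u ≪≫
      (((DerivedCategory.singleFunctors (ModuleCat.{u} A)).shiftIso (-c) c 0 (by omega)).app N).symm
    haveI : Subsingleton (Dual.inD A N ⟶ ω⟦t + c⟧) := subsingleton_hom_module_of_lt hn N (t + c) fun P hP =>
      hs c P (Module.support_subset_of_surjective ((H c).map T.mor₂).hom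
        ((ModuleCat.epi_iff_surjective _).1 inferInstance) hP)
    obtain ⟨z⟩ := exists_shiftHomLEquiv (Dual.inD A N) (ω⟦t⟧) c
    have s₃ : Subsingleton (T.obj₃ ⟶ ω⟦t⟧) := by
      haveI : Subsingleton (Dual.inD A N ⟶ (ω⟦t⟧)⟦c⟧) :=
        ((Iso.refl _).homCongr ((shiftFunctorAdd' (Dual.D A) t c (t + c) rfl).app ω).symm).injective.subsingleton
      haveI := z.symm.injective.subsingleton
      exact (v.homFromEquiv).injective.subsingleton
    refine subsingleton_of_forall_eq 0 fun φ => ?_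
    obtain ⟨ψ, hψ⟩ := Triangle.yoneda_exact₂ _ hT φ (s₁.elim _ _)
    rw [hψ, s₃.elim ψ 0, comp_zero]

variable [IsLocalRing A]

/-- A local ring with a dualizing complex and `S₂` is equidimensional. -/
theorem isEquidim_of_hasSk_two (hω : Dual.IsDualizing A ω) (hS : LocCoh.HasSk 2 A A) : EGA4.IsEquidim A := fun p hp =>
  S1717.result A ((S1721.result A ω hω).2 A inferInstance) hS p hp

omit [IsLocalRing A] [IsNoetherianRing A] in
theorem hasSk_mono {k l : ℕ} (h : k ≤ l) {M : Type u} [AddCommGroup M] [Module A M]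
    (hS : LocCoh.HasSk l A M) : LocCoh.HasSk k A M := fun p _ =>
  le_trans (min_le_min (by exact_mod_cast h) le_rfl) (hS p)

/-- The cohomology of a normalized dualizing complex of an `S_k` ring is small outside the bottom degree. -/
theorem lt_degree_of_hasSk (hω : Dual.IsDualizing A ω) (hN : Dual.IsNormalized A ω) {d : ℕ}
    (hd : ringKrullDim A = d) {k : ℕ} (hk : 2 ≤ k) (hS : LocCoh.HasSk k A A) {n : PrimeSpectrum A → ℤ}
    (hdim : ∀ P : PrimeSpectrum A, ∃ e : ℕ, ringKrullDim (A ⧸ P.asIdeal) = (e : WithBot ℕ∞) ∧ (e : ℤ) = -n P)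
    {m : ℤ} (hm : m ≠ -(d : ℤ)) {P : PrimeSpectrum A} (hP : P ∈ Module.support A (Dual.HD A ω m)) :
    m + k ≤ n P := by
  have hM : EGA4.IsEquidimModule A A := by
    intro p hp
    rw [Module.annihilator_eq_bot.2 inferInstance] at hp
    rw [isEquidim_of_hasSk_two hω (hasSk_mono hk hS) p hp, Module.supportDim_self_eq_ringKrullDim]
  obtain ⟨h1, h2⟩ := (SkDual.hasSk_iff_supportDim A hω hN hM d
    (by rw [Module.supportDim_self_eq_ringKrullDim, hd]) k).1 hS m hm
  obtain ⟨e⟩ := exists_homRingLEquiv ω m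
  rw [← e.support_eq] at hP
  obtain ⟨l, hl, hl'⟩ := hdim P
  by_cases hneg : -m - (k : ℤ) < 0
  · haveI := h1 hneg
    rw [Module.support_eq_empty] at hP
    exact hP.elim
  · have h3 : ringKrullDim (A ⧸ P.asIdeal) ≤ Module.supportDim A (Dual.inD A A ⟶ ω⟦m⟧) := by
      rw [ringKrullDim_quotient]
      exact Order.krullDim_le_of_strictMono (fun Q => ⟨Q.1, Module.mem_support_mono Q.2 hP⟩)
        fun x y h => h
    have h4 := h3.trans (h2 (by omega))
    rw [hl] at h4
    have h5 : l ≤ (-m - (k : ℤ)).toNat := by exact_mod_cast h4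
    omega

/-- The bottom cohomology of a normalized dualizing complex, with the rest killed by `S_k`. -/
theorem exists_bottom_triangle (hω : Dual.IsDualizing A ω) (hN : Dual.IsNormalized A ω) {d : ℕ}
    (hd : ringKrullDim A = d) :
    ∃ (X R : Dual.D A) (f : X ⟶ ω) (g : ω ⟶ R) (δ : R ⟶ X⟦(1 : ℤ)⟧),
      Triangle.mk f g δ ∈ distTriang _ ∧ X.IsLE (-(d : ℤ)) ∧ R.IsGE (-(d : ℤ) + 1) ∧
      Nonempty (X ≅ (Dual.inD A (Dual.HD A ω (-(d : ℤ))))⟦(d : ℤ)⟧) ∧
      (∀ (k : ℕ), 2 ≤ k → LocCoh.HasSk k A A → ∀ t : ℤ, t < k → Subsingleton (R ⟶ ω⟦t⟧)) := by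
  obtain ⟨n, hn, -, -, hle, hdim⟩ := exists_normalized_degree hω hN
  have hge : ω.IsGE (-(d : ℤ)) := (DerivedCategory.isGE_iff _ _).2 fun i hi => by
    haveI : Subsingleton (Dual.inD A A ⟶ ω⟦i⟧) := by
      by_contra hne
      rw [not_subsingleton_iff_nontrivial] at hne
      have := ((ext_amplitude_and_support hω hN A d
        (by rw [Module.supportDim_self_eq_ringKrullDim, hd]) i).1 hne).1
      omega
    obtain ⟨e⟩ := exists_homRingLEquiv ω i
    haveI : Subsingleton (Dual.HD A ω i) := e.symm.injective.subsingleton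
    exact ModuleCat.isZero_of_subsingleton _
  have hle0 : ω.IsLE 0 := (DerivedCategory.isLE_iff _ _).2 fun i hi => by
    haveI := subsingleton_hom_module_of_pos hω hN A i hi
    obtain ⟨e⟩ := exists_homRingLEquiv ω i
    haveI : Subsingleton (Dual.HD A ω i) := e.symm.injective.subsingleton
    exact ModuleCat.isZero_of_subsingleton _
  obtain ⟨T, hT, h2, h₁, h₃, hf₁, hf₃, hg₁, hl₃⟩ := exists_trunc_finite hω.finite_cohomology (-(d : ℤ))
  obtain ⟨X, W, R, f, g, δ⟩ := T
  dsimp at h2 h₁ h₃ hf₁ hf₃ hg₁ hl₃ hT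
  subst h2
  haveI := h₁
  haveI := h₃
  haveI := hg₁ _ hge
  have hT' : Triangle.mk f g δ ∈ distTriang _ := hT
  let H := fun j => DerivedCategory.homologyFunctor (ModuleCat.{u} A) j
  haveI : IsIso ((H (-(d : ℤ))).map f) := by
    haveI : Mono ((H (-(d : ℤ))).map f) :=
      (DerivedCategory.HomologySequence.mono_homologyMap_mor₁_iff _ hT' (-(d : ℤ) - 1) _ (by omega)).2
        ((DerivedCategory.isZero_of_isGE R (-(d : ℤ) + 1) (-(d : ℤ) - 1) (by omega)).eq_of_src _ _)
    haveI : Epi ((H (-(d : ℤ))).map f) :=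
      (DerivedCategory.HomologySequence.epi_homologyMap_mor₁_iff _ hT' (-(d : ℤ))).2
        ((DerivedCategory.isZero_of_isGE R (-(d : ℤ) + 1) (-(d : ℤ)) (by omega)).eq_of_tgt _ _)
    exact isIso_of_mono_of_epi _
  refine ⟨X, R, f, g, δ, hT', h₁, h₃, ?_, fun k hk hS t ht => ?_⟩
  · obtain ⟨u⟩ := H9Misc.nonempty_iso_single_homology (-(d : ℤ)) X
    exact ⟨u ≪≫ (((DerivedCategory.singleFunctors (ModuleCat.{u} A)).shiftIso (d : ℤ) (-(d : ℤ)) 0 (by omega)).app _).symm ≪≫
      (shiftFunctor (Dual.D A) (d : ℤ)).mapIso ((DerivedCategory.singleFunctor (ModuleCat.{u} A) 0).mapIso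
        (asIso ((H (-(d : ℤ))).map f)))⟩
  · haveI := hl₃ 0 hle0
    refine subsingleton_hom_of_support hn t (d + 1) R (-(d : ℤ) + 1) 0 h₃ inferInstance (by push_cast; omega) hf₃
      fun m P hP => ?_
    by_cases hm : -(d : ℤ) + 1 ≤ m
    · have hepi : Epi ((H m).map g) := (DerivedCategory.HomologySequence.epi_homologyMap_mor₂_iff _ hT' m (m + 1) rfl).2
        ((DerivedCategory.isZero_of_isLE X (-(d : ℤ)) (m + 1) (by omega)).eq_of_tgt _ _)
      have := lt_degree_of_hasSk hω hN hd hk hS hdim (m := m) (by omega)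
        (Module.support_subset_of_surjective ((H m).map g).hom
          ((ModuleCat.epi_iff_surjective _).1 hepi) hP)
      omega
    · haveI := ModuleCat.subsingleton_of_isZero (DerivedCategory.isZero_of_isGE R (-(d : ℤ) + 1) m (by omega))
      rw [Module.support_eq_empty] at hP
      exact hP.elim

/-- The dualizing module of an `S₂` ring has the ring as endomorphisms; with `S₃` it has no self-extension. -/
theorem toEnd_and_ext_one (hω : Dual.IsDualizing A ω) (hN : Dual.IsNormalized A ω) {d : ℕ}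
    (hd : ringKrullDim A = d) :
    (LocCoh.HasSk 2 A A →
      Function.Bijective (fun r : A => r • (LinearMap.id : Dual.HD A ω (-(d : ℤ)) →ₗ[A] Dual.HD A ω (-(d : ℤ))))) ∧
    (LocCoh.HasSk 3 A A →
      Subsingleton (Dual.inD A (Dual.HD A ω (-(d : ℤ))) ⟶ (Dual.inD A (Dual.HD A ω (-(d : ℤ))))⟦(1 : ℤ)⟧)) := by
  obtain ⟨X, R, f, g, δ, hT, hX, hR, ⟨eX⟩, hvan⟩ := exists_bottom_triangle hω hN hd
  let K := Dual.HD A ω (-(d : ℤ))
  let F := DerivedCategory.singleFunctor (ModuleCat.{u} A) 0 ⋙ shiftFunctor (Dual.D A) (d : ℤ)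
  haveI := hX
  haveI := hR
  refine ⟨fun hS => ?_, fun hS => ?_⟩
  · have v0 : Subsingleton (R ⟶ ω⟦(0 : ℤ)⟧) := hvan 2 le_rfl hS 0 (by norm_num)
    have v1 : Subsingleton (R ⟶ ω⟦(1 : ℤ)⟧) := hvan 2 le_rfl hS 1 (by norm_num)
    have v0' : Subsingleton (R ⟶ ω) :=
      (((Iso.refl R).homCongr ((shiftFunctorZero (Dual.D A) ℤ).app ω)).symm).injective.subsingleton
    have hb : Function.Bijective fun r : A => r • f := by
      refine ⟨fun r s h => hω.toEnd_bijective.1 ?_, fun φ => ?_⟩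
      · obtain ⟨ψ, hψ⟩ := Triangle.yoneda_exact₂ _ hT ((r - s) • 𝟙 ω) (by
          change f ≫ ((r - s) • 𝟙 ω) = 0
          rw [Linear.comp_smul, Category.comp_id, sub_smul]
          exact sub_eq_zero.2 h)
        rw [v0'.elim ψ 0, comp_zero, sub_smul] at hψ
        exact sub_eq_zero.1 hψ
      · obtain ⟨χ, hχ⟩ := Triangle.yoneda_exact₂ _ (rot_of_distTriang _ (rot_of_distTriang _ hT))
          (φ⟦(1 : ℤ)⟧') (v1.elim _ _)
        obtain ⟨χ', rfl⟩ := (shiftFunctor (Dual.D A) (1 : ℤ)).map_surjective χ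
        obtain ⟨r, hr⟩ := hω.toEnd_bijective.2 (-χ')
        refine ⟨r, (shiftFunctor (Dual.D A) (1 : ℤ)).map_injective ?_⟩
        dsimp only
        rw [show r • f = f ≫ (r • 𝟙 ω) by rw [Linear.comp_smul, Category.comp_id], show r • 𝟙 ω = -χ' from hr,
          Functor.map_comp, Functor.map_neg, Preadditive.comp_neg]
        exact ((Preadditive.neg_comp _ _).symm.trans hχ.symm)
    have hX0 : ∀ φ : X ⟶ R, φ = 0 := fun φ =>
      DerivedCategory.TStructure.t.zero φ (-(d : ℤ)) (-(d : ℤ) + 1) (by omega)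
    have hXb : Function.Bijective fun r : A => r • 𝟙 X := by
      have hinj : Function.Injective fun φ : X ⟶ X => φ ≫ f := fun φ ψ h => by
        haveI : (R⟦(-1 : ℤ)⟧).IsGE (-(d : ℤ) + 2) :=
          DerivedCategory.TStructure.t.isGE_shift R (-(d : ℤ) + 1) (-1) (-(d : ℤ) + 2) (by omega)
        obtain ⟨χ, hχ⟩ := Triangle.coyoneda_exact₂ _ (inv_rot_of_distTriang _ hT) (φ - ψ)
          (show (φ - ψ) ≫ f = 0 by rw [Preadditive.sub_comp]; exact sub_eq_zero.2 h)
        rw [show χ = 0 from DerivedCategory.TStructure.t.zero (Y := R⟦(-1 : ℤ)⟧) χ (-(d : ℤ)) (-(d : ℤ) + 2) (by omega),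
          zero_comp] at hχ
        exact sub_eq_zero.1 hχ
      refine ⟨fun r s h => hb.1 ?_, fun φ => ?_⟩
      · have := congrArg (fun φ : X ⟶ X => φ ≫ f) h
        simpa only [Linear.smul_comp, Category.id_comp] using this
      · obtain ⟨r, hr⟩ := hb.2 (φ ≫ f)
        exact ⟨r, hinj (by simpa only [Linear.smul_comp, Category.id_comp] using hr)⟩
    have key : ∀ r : A, F.map (ModuleCat.ofHom (r • (LinearMap.id : K →ₗ[A] K))) =
        eX.inv ≫ (r • 𝟙 X) ≫ eX.hom := fun r => by
      rw [Linear.smul_comp, Category.id_comp, Linear.comp_smul, eX.inv_hom_id,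
        show ModuleCat.ofHom (r • (LinearMap.id : K →ₗ[A] K)) = r • 𝟙 (ModuleCat.of A K) from rfl]
      simp only [F, Functor.comp_map, Functor.map_smul, CategoryTheory.Functor.map_id]
      rfl
    refine ⟨fun r s h => hXb.1 ?_, fun φ => ?_⟩
    · have h1 := congrArg (fun φ : K →ₗ[A] K => F.map (ModuleCat.ofHom φ)) h
      simp only [key] at h1
      exact (cancel_mono eX.hom).1 ((cancel_epi eX.inv).1 h1)
    · obtain ⟨r, hr⟩ := hXb.2 (eX.hom ≫ F.map (ModuleCat.ofHom φ) ≫ eX.inv)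
      refine ⟨r, ?_⟩
      have h1 : F.map (ModuleCat.ofHom (r • (LinearMap.id : K →ₗ[A] K))) = F.map (ModuleCat.ofHom φ) := by
        rw [key, show r • 𝟙 X = _ from hr]
        simp
      exact congrArg ModuleCat.Hom.hom (F.map_injective h1)
  · have v2 : Subsingleton (R ⟶ ω⟦(2 : ℤ)⟧) := hvan 3 (by norm_num) hS 2 (by norm_num)
    haveI := hω.ext_self_subsingleton 1 one_ne_zero
    have h1 : Subsingleton (X ⟶ ω⟦(1 : ℤ)⟧) := subsingleton_of_forall_eq 0 fun φ => by
      let e := ((shiftFunctorAdd' (Dual.D A) (1 : ℤ) 1 2 rfl).app ω).symm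
      obtain ⟨χ, hχ⟩ := Triangle.yoneda_exact₂ _ (rot_of_distTriang _ (rot_of_distTriang _ hT))
        (φ⟦(1 : ℤ)⟧') ((cancel_mono e.hom).1 (v2.elim _ _))
      obtain ⟨χ', rfl⟩ := (shiftFunctor (Dual.D A) (1 : ℤ)).map_surjective χ
      refine (shiftFunctor (Dual.D A) (1 : ℤ)).map_injective ?_
      rw [hχ, Subsingleton.elim (α := ω ⟶ ω⟦(1 : ℤ)⟧) χ' 0]
      simp
    have h2 : Subsingleton (X ⟶ X⟦(1 : ℤ)⟧) := subsingleton_of_forall_eq 0 fun φ => by
      obtain ⟨χ, hχ⟩ := Triangle.coyoneda_exact₁ _ hT φ (h1.elim _ _)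
      rw [hχ, show χ = 0 from DerivedCategory.TStructure.t.zero (Y := R) χ (-(d : ℤ)) (-(d : ℤ) + 1) (by omega)]
      simp
    refine subsingleton_of_forall_eq 0 fun ψ => (shiftFunctor (Dual.D A) (d : ℤ)).map_injective ?_
    rw [Functor.map_zero, ← cancel_epi eX.hom, comp_zero, ← cancel_mono
      ((shiftFunctorComm (Dual.D A) (1 : ℤ) (d : ℤ)).app (Dual.inD A K) ≪≫
        (shiftFunctor (Dual.D A) (1 : ℤ)).mapIso eX.symm).hom, zero_comp]
    exact h2.elim _ _

/-- A complex which is a sheaf away from a small closed set. -/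
theorem ordinary_and_hasSk_two (hω : Dual.IsDualizing A ω) (d : ℕ) (hd : ringKrullDim A = d)
    (J : Ideal A) (hJ : 1 ≤ J.height)
    (hoff : ∀ p : PrimeSpectrum A, ¬ J ≤ p.asIdeal → ∀ i : ℤ, i ≠ 0 → p ∉ Module.support A (Dual.HD A ω i)) :
    (EGA4.IsEquidim A ∧ Dual.IsNormalized A (ω⟦(d : ℤ)⟧) ∧ LocCoh.HasSk 2 A (Dual.HD A ω 0)) ∧
    (2 ≤ J.height → 2 ≤ LocCoh.idealDepth J (Dual.HD A ω 0)) := by
  obtain ⟨n, hn, hcov, hmono, -⟩ := exists_extDegree hω
  obtain ⟨a, b, -, _, _⟩ := exists_bounds_of_isDualizing hω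
  -- the degree of a minimal prime is zero and it lies in the support of the sheaf
  have hmin : ∀ P : PrimeSpectrum A, P.asIdeal ∈ minimalPrimes A →
      n P = 0 ∧ P ∈ Module.support A (Dual.HD A ω 0) := by
    intro P hP
    obtain ⟨-, f, hf⟩ := (isAssociatedPrime_iff_exists_injective_linearMap _ _).1
      (Module.associatedPrimes.minimalPrimes_annihilator_subset_associatedPrimes A A (show P.asIdeal ∈ (Module.annihilator A A).minimalPrimes by
        rw [Module.annihilator_eq_bot.2 inferInstance]; exact hP))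
    have h1 := Module.mem_support_iff.2 (nontrivial_localized_of_injective hn a hω.finite_cohomology A P f hf)
    obtain ⟨e⟩ := exists_homRingLEquiv ω (n P)
    rw [e.support_eq] at h1
    have hnJ : ¬ J ≤ P.asIdeal := fun hle => by
      have := hJ.trans (Ideal.height_mono hle)
      rw [(Ideal.height_eq_zero_iff.2 hP : P.asIdeal.height = 0)] at this
      exact absurd this (by simp)
    have h0 : n P = 0 := by_contra fun hne => hoff P hnJ _ hne h1
    rw [h0] at h1
    exact ⟨h0, h1⟩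
  have hbelow : ∀ P : PrimeSpectrum A, ∃ P' : PrimeSpectrum A, P'.asIdeal ∈ minimalPrimes A ∧ P' ≤ P := by
    intro P
    obtain ⟨p, hp, hle⟩ := Ideal.exists_minimalPrimes_le (bot_le : (⊥ : Ideal A) ≤ P.asIdeal)
    exact ⟨⟨p, hp.1.1⟩, hp, hle⟩
  let m := IsLocalRing.closedPoint A
  have hq : ∀ P : PrimeSpectrum A, ∃ e : ℕ, ringKrullDim (A ⧸ P.asIdeal) = (e : WithBot ℕ∞) ∧ (e : ℤ) = n m - n P :=
    ringKrullDim_quotient_eq hcov hmono
  have hd' : Module.supportDim A A = d := by rw [Module.supportDim_self_eq_ringKrullDim, hd]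
  obtain ⟨P₀, -, hP₀, hP₀d⟩ := exists_mem_support_dim (A := A) A d hd'
  have hP₀min : P₀.asIdeal ∈ minimalPrimes A := by
    obtain ⟨P', hP', hle⟩ := hbelow P₀
    rwa [← hP₀ P' (by rw [Module.support_eq_zeroLocus, Module.annihilator_eq_bot.2 inferInstance]; simp) hle]
  have hnm : n m = d := by
    obtain ⟨e, he, he'⟩ := hq P₀
    have h1 := ringKrullDim_quotient_le P₀.asIdeal
    rw [he, hd] at h1
    rw [he] at hP₀d
    have h2 : e ≤ d := by exact_mod_cast h1
    have h3 : d ≤ e := by exact_mod_cast hP₀d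
    rw [(hmin P₀ hP₀min).1] at he'
    omega
  have heq : EGA4.IsEquidim A := fun p hp => by
    obtain ⟨e, he, he'⟩ := hq ⟨p, hp.1.1⟩
    rw [(hmin ⟨p, hp.1.1⟩ hp).1] at he'
    rw [he, hd, show e = d by omega]
  have hN : Dual.IsNormalized A (ω⟦(d : ℤ)⟧) := by
    intro i hi
    have hsub : Subsingleton (Dual.inD A (A ⧸ IsLocalRing.maximalIdeal A) ⟶ ω⟦(d : ℤ) + i⟧) := by
      haveI : Subsingleton (LocalizedModule m.asIdeal.primeCompl (Dual.inD A (A ⧸ m.asIdeal) ⟶ ω⟦(d : ℤ) + i⟧)) :=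
        not_nontrivial_iff_subsingleton.1 fun h => hi (by have := (hn m _).1 h; omega)
      refine subsingleton_of_forall_eq 0 fun x => ?_
      obtain ⟨s, hs, hsx⟩ := LocalizedModule.subsingleton_iff.1 this x
      exact (IsLocalRing.notMem_maximalIdeal.1 hs).smul_eq_zero.1 hsx
    haveI : Subsingleton (Dual.inD A (IsLocalRing.ResidueField A) ⟶ ω⟦(d : ℤ) + i⟧) := hsub
    exact ((Iso.refl _).homCongr ((shiftFunctorAdd (Dual.D A) (d : ℤ) i).app ω)).symm.injective.subsingleton
  let eH : Dual.HD A (ω⟦(d : ℤ)⟧) (-(d : ℤ)) ≃ₗ[A] Dual.HD A ω 0 := HDshift ω (d : ℤ) (-(d : ℤ)) 0 (by omega)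
  haveI := hω.finite_cohomology 0
  have hω' : Dual.IsDualizing A (ω⟦(d : ℤ)⟧) := isDualizing_shift hω _
  have hS2 : LocCoh.HasSk 2 A (Dual.HD A ω 0) := by
    obtain ⟨E, _, _, f, hf⟩ := Groth.Agent.LC.exists_injectiveHull A (IsLocalRing.ResidueField A)
    obtain ⟨e₁⟩ := nonempty_H_equiv_HDI hω' hN A d
    obtain ⟨e₂⟩ := nonempty_HDI_equiv_dual hω' hN hf (Dual.inD A A) (finite_HD_inD A) (d : ℤ)
    obtain ⟨e₃⟩ := exists_homRingLEquiv (ω⟦(d : ℤ)⟧) (-(d : ℤ))
    exact LC.Canon.hasSk_two hd hf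
      ((e₁.trans e₂).trans ((e₃.trans eH).arrowCongr (LinearEquiv.refl A E))).symm
  refine ⟨⟨heq, hN, hS2⟩, fun hJ2 => ?_⟩
  rw [LC.idealDepth_eq_iInf_depth]
  refine le_iInf₂ fun q hq' => ?_
  obtain ⟨P', hP', hle⟩ := hbelow q
  have hall : ∀ Q : PrimeSpectrum (Localization.AtPrime q.asIdeal),
      Q ∈ Module.support (Localization.AtPrime q.asIdeal) (LocalizedModule q.asIdeal.primeCompl (Dual.HD A ω 0)) := by
    intro Q
    haveI : Module.Finite (Localization.AtPrime q.asIdeal) (LocalizedModule q.asIdeal.primeCompl (Dual.HD A ω 0)) :=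
      inferInstance
    obtain ⟨P', hP', hle⟩ := hbelow (PrimeSpectrum.comap (algebraMap A (Localization.AtPrime q.asIdeal)) Q)
    rw [Module.mem_support_iff_of_finite]
    intro x hx
    obtain ⟨⟨r, s⟩, hrs⟩ := IsLocalization.surj q.asIdeal.primeCompl x
    have h1 := (hmin P' hP').2
    rw [Module.mem_support_iff_of_finite] at h1
    obtain ⟨l, gen, hgen⟩ := Module.Finite.exists_fin (R := A) (M := Dual.HD A ω 0)
    let L := LocalizedModule.mkLinearMap q.asIdeal.primeCompl (Dual.HD A ω 0)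
    have hkill : ∀ i, ∃ t : q.asIdeal.primeCompl, (t : A) • r • gen i = 0 := fun i => by
      refine (IsLocalizedModule.eq_zero_iff q.asIdeal.primeCompl L).1 ?_
      rw [map_smul, ← algebraMap_smul (Localization.AtPrime q.asIdeal) r, ← hrs, mul_comm, mul_smul,
        Module.mem_annihilator.1 hx, smul_zero]
    choose t ht using hkill
    let T : q.asIdeal.primeCompl := ∏ i, t i
    have hT : (T : A) * r ∈ Module.annihilator A (Dual.HD A ω 0) := by
      rw [Module.mem_annihilator]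
      intro z
      refine LinearMap.congr_fun (show ((T : A) * r) • (LinearMap.id : Dual.HD A ω 0 →ₗ[A] Dual.HD A ω 0) = 0 from
        LinearMap.ext_on_range hgen fun i => ?_) z
      obtain ⟨c, hc⟩ : t i ∣ T := Finset.dvd_prod_of_mem t (Finset.mem_univ i)
      rw [LinearMap.smul_apply, LinearMap.id_apply, LinearMap.zero_apply, hc, Submonoid.coe_mul, mul_comm (t i : A) _,
        mul_assoc, mul_smul, mul_smul, ht i, smul_zero]
    have h2 : algebraMap A (Localization.AtPrime q.asIdeal) ((T : A) * r) ∈ Q.asIdeal := hle (h1 hT)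
    rw [map_mul, ← hrs] at h2
    refine ((Q.isPrime.mem_or_mem h2).resolve_left ?_ |> Q.isPrime.mem_or_mem).resolve_right ?_
    · exact fun h => Q.isPrime.ne_top (Ideal.eq_top_of_isUnit_mem _ h (IsLocalization.map_units _ T))
    · exact fun h => Q.isPrime.ne_top (Ideal.eq_top_of_isUnit_mem _ h (IsLocalization.map_units _ s))
  have hdim : (2 : WithBot ℕ∞) ≤
      Module.supportDim (Localization.AtPrime q.asIdeal) (LocalizedModule q.asIdeal.primeCompl (Dual.HD A ω 0)) := by
    have h1 : ringKrullDim (Localization.AtPrime q.asIdeal) ≤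
        Module.supportDim (Localization.AtPrime q.asIdeal) (LocalizedModule q.asIdeal.primeCompl (Dual.HD A ω 0)) :=
      Order.krullDim_le_of_strictMono (fun Q => ⟨Q, hall Q⟩) fun x y h => h
    refine le_trans ?_ h1
    rw [IsLocalization.AtPrime.ringKrullDim_eq_height q.asIdeal (Localization.AtPrime q.asIdeal)]
    exact WithBot.coe_le_coe.2 (hJ2.trans (Ideal.height_mono hq'))
  have h2 := hS2 q.asIdeal
  rw [Nat.cast_ofNat, min_eq_left hdim] at h2
  exact WithBot.coe_le_coe.1 h2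

end Groth.Agent.QGor6.DualModule
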