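import Groth.Agent.QGor6.DualModule

/-!
# The support of the dualizing module
-/

set_option linter.style.haveILetI false
set_option maxHeartbeats 1000000
set_option autoImplicit false
set_option backward.isDefEq.respectTransparency false

universe u

open CategoryTheory CategoryTheory.Limits

attribute [local instance] HasDerivedCategory.standard

namespace Groth.Agent.QGor6.DualSupp

open Groth.Agent.KFlatLib Groth.Agent.RGammaI

variable {A : Type u} [CommRing A] [IsNoetherianRing A] [IsLocalRing A] {ω : Dual.D A}

/-- The dualizing module of a local ring: support and `S₂`. -/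
theorem support_and_hasSk_two (hω : Dual.IsDualizing A ω) (hN : Dual.IsNormalized A ω) (d : ℕ)
    (hd : ringKrullDim A = d) :
    Module.support A (Dual.HD A ω (-(d : ℤ))) =
        {p : PrimeSpectrum A | ∃ q ∈ minimalPrimes A, q ≤ p.asIdeal ∧ ringKrullDim (A ⧸ q) = d} ∧
      LocCoh.HasSk 2 A (Dual.HD A ω (-(d : ℤ))) := by
  obtain ⟨n, hn, -, hmono, hle, hdim⟩ := exists_normalized_degree hω hN
  obtain ⟨a, b, -, _, _⟩ := exists_bounds_of_isDualizing hω
  obtain ⟨eA⟩ := exists_homRingLEquiv ω (-(d : ℤ))
  refine ⟨?_, ?_⟩
  · rw [← eA.support_eq]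
    ext p
    constructor
    · intro hp
      have hpA : p ∈ Module.support A A := support_hom_subset A _ hp
      obtain ⟨dp, δ, hdp, -, hr, -⟩ := SkDual.ext_range A hω hn p hpA
      have h1 := (hr _ hp).1
      have h2 : (dp : WithBot ℕ∞) ≤ ((p.asIdeal.height : ℕ∞) : WithBot ℕ∞) := by
        rw [← IsLocalization.AtPrime.ringKrullDim_eq_height p.asIdeal (Localization.AtPrime p.asIdeal), ← hdp]
        exact Module.supportDim_le_ringKrullDim _ _
      have h3 : (dp : ℕ∞) ≤ Order.height p := by
        rw [← PrimeSpectrum.height_eq_orderHeight]; exact_mod_cast h2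
      obtain ⟨s, hs, hlen⟩ := Order.exists_series_of_le_height p h3
      have h4 : ∀ k : ℕ, ∀ hk : k < s.length + 1, n s.head + k ≤ n (s ⟨k, hk⟩) := by
        intro k
        induction k with
        | zero => intro hk; simp [RelSeries.head]
        | succ k ih =>
          intro hk
          have h2 := ih (by omega)
          have h3 := hmono (s.step ⟨k, by omega⟩)
          simp only [Fin.castSucc_mk, Fin.succ_mk] at h3
          push_cast
          omega
      have h5 : n s.head + s.length ≤ n p := by
        have := h4 s.length (by omega)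
        rwa [show s ⟨s.length, by omega⟩ = p from hs] at this
      obtain ⟨q, hq, hqh⟩ := Ideal.exists_minimalPrimes_le (bot_le : (⊥ : Ideal A) ≤ s.head.asIdeal)
      haveI := hq.1.1
      obtain ⟨e, he, he'⟩ := hdim ⟨q, inferInstance⟩
      have h6 : n ⟨q, inferInstance⟩ ≤ n s.head := hmono.monotone hqh
      have h7 : e ≤ d := by
        have := ringKrullDim_quotient_le q
        rw [show ringKrullDim (A ⧸ q) = e from he, hd] at this
        exact_mod_cast this
      exact ⟨q, hq, hqh.trans ((s.monotone (Fin.zero_le (Fin.last _))).trans hs.le),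
        he.trans (by rw [show e = d by omega])⟩
    · rintro ⟨q, hq, hqp, hqd⟩
      haveI := hq.1.1
      obtain ⟨-, f, hf⟩ := (isAssociatedPrime_iff_exists_injective_linearMap _ _).1
        (Module.associatedPrimes.minimalPrimes_annihilator_subset_associatedPrimes A A (show q ∈ (Module.annihilator A A).minimalPrimes by
          rw [Module.annihilator_eq_bot.2 inferInstance]; exact hq))
      have h1 := nontrivial_localized_of_injective hn a hω.finite_cohomology A ⟨q, inferInstance⟩ f hf
      obtain ⟨e, he, he'⟩ := hdim ⟨q, inferInstance⟩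
      have hed : e = d := by
        rw [show ringKrullDim (A ⧸ q) = e from he] at hqd
        exact_mod_cast hqd
      rw [show n ⟨q, inferInstance⟩ = -(d : ℤ) by omega] at h1
      exact Module.mem_support_mono (p := ⟨q, inferInstance⟩) hqp (Module.mem_support_iff.2 h1)
  · haveI := hω.finite_cohomology (-(d : ℤ))
    obtain ⟨E, _, _, f, hf⟩ := Groth.Agent.LC.exists_injectiveHull A (IsLocalRing.ResidueField A)
    obtain ⟨e₁⟩ := nonempty_H_equiv_HDI hω hN A d
    obtain ⟨e₂⟩ := nonempty_HDI_equiv_dual hω hN hf (Dual.inD A A) (finite_HD_inD A) (d : ℤ)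
    exact LC.Canon.hasSk_two hd hf ((e₁.trans e₂).trans (eA.arrowCongr (LinearEquiv.refl A E))).symm

end Groth.Agent.QGor6.DualSupp
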