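import Groth.Agent.RGammaI.DepthSupport
import Groth.Agent.Alg6.LocLoc
import Groth.Agent.Alg6.RkLoc
import Groth.Prelude.Def_EGA4b

/-!
# Serre's conditions read off from Ext into a dualizing complex
-/

set_option linter.style.haveILetI false
set_option maxHeartbeats 1000000
set_option autoImplicit false

universe u

open CategoryTheory CategoryTheory.Limits

attribute [local instance] HasDerivedCategory.standard

namespace Groth.Agent.QGor6.SkDual

open Groth.Agent.KFlatLib Groth.Agent.RGammaI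

variable {A : Type u} [CommRing A] [IsNoetherianRing A] {ω : Dual.D A}
  (M : Type u) [AddCommGroup M] [Module A M] [Module.Finite A M]

/-- The degrees of the nonzero localized Ext modules fill out an interval from minus the dimension
to minus the depth, shifted by the degree of the prime. -/
theorem ext_range (hω : Dual.IsDualizing A ω) {n : PrimeSpectrum A → ℤ} (hn : IsExtDegree ω n)
    (q : PrimeSpectrum A) (hq : q ∈ Module.support A M) :
    ∃ d δ : ℕ,
      Module.supportDim (Localization.AtPrime q.asIdeal) (LocalizedModule q.asIdeal.primeCompl M) = d ∧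
      LocCoh.depth (Localization.AtPrime q.asIdeal) (LocalizedModule q.asIdeal.primeCompl M) = δ ∧
      (∀ i : ℤ, q ∈ Module.support A (Dual.inD A M ⟶ ω⟦i⟧) → n q - d ≤ i ∧ i ≤ n q - δ) ∧
      q ∈ Module.support A (Dual.inD A M ⟶ ω⟦n q - (d : ℤ)⟧) ∧
      q ∈ Module.support A (Dual.inD A M ⟶ ω⟦n q - (δ : ℤ)⟧) := by
  let B := Localization.AtPrime q.asIdeal
  let Mq := LocalizedModule q.asIdeal.primeCompl M
  haveI := hasLBase (algebraMap A B)
  haveI : Module.Flat A B := IsLocalization.flat _ q.asIdeal.primeCompl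
  haveI : Nontrivial Mq := Module.mem_support_iff.1 hq
  haveI : Module.Finite B Mq := inferInstance
  obtain ⟨δ, hδ⟩ := exists_depth_eq (A := B) Mq
  obtain ⟨hup, hδnt⟩ := localized_ext_of_depth hω hn M q δ hδ hq
  obtain ⟨a, b, -, _, _⟩ := exists_bounds_of_isDualizing hω
  haveI := isGE_LBase_flat (B := B) ω a
  obtain ⟨hB, nB, hnB, hcov, hmono, hclosed⟩ := exists_local_degree hω hn a q
  obtain ⟨d, hd⟩ : ∃ d : ℕ, Module.supportDim B Mq = d := by
    have h1 := Module.supportDim_le_ringKrullDim B Mq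
    have h2 : ringKrullDim B < ⊤ := ringKrullDim_lt_top
    generalize hx : Module.supportDim B Mq = x at h1
    rcases x with _ | x
    · exact absurd hx (Module.supportDim_ne_bot_of_nontrivial B Mq)
    · rcases x with _ | x
      · exact absurd (lt_of_le_of_lt h1 h2) (lt_irrefl _)
      · exact ⟨x, rfl⟩
  refine ⟨d, δ, hd, hδ, fun i hi => ⟨?_, ?_⟩, ?_, Module.mem_support_iff.2 hδnt⟩
  · by_contra hcon
    rw [Module.mem_support_iff] at hi
    obtain ⟨e⟩ := nonempty_localExt (ω := ω) a q.asIdeal M i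
    haveI := subsingleton_hom_module_of_lt hnB Mq i fun P hP => by
      obtain ⟨e', he, he'⟩ := ringKrullDim_quotient_eq hcov hmono P
      have h1 : ringKrullDim (B ⧸ P.asIdeal) ≤ Module.supportDim B Mq := by
        rw [ringKrullDim_quotient]
        exact Order.krullDim_le_of_strictMono (fun Q => ⟨Q.1, Module.mem_support_mono Q.2 hP⟩)
          fun x y h => h
      rw [he, hd] at h1
      have h2 : e' ≤ d := by exact_mod_cast h1
      rw [hclosed] at he'
      omega
    exact not_subsingleton _ e.symm.subsingleton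
  · by_contra hcon
    rw [Module.mem_support_iff] at hi
    exact not_subsingleton _ (hup i (by omega))
  · rw [Module.mem_support_iff]
    obtain ⟨e⟩ := nonempty_localExt (ω := ω) a q.asIdeal M (n q - d)
    obtain ⟨P, hP, hmin, hPd⟩ := exists_mem_support_dim (A := B) Mq d hd
    obtain ⟨e', he, he'⟩ := ringKrullDim_quotient_eq hcov hmono P
    have hed : e' = d := by
      refine le_antisymm ?_ (by rw [he] at hPd; exact_mod_cast hPd)
      have h1 : ringKrullDim (B ⧸ P.asIdeal) ≤ Module.supportDim B Mq := by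
        rw [ringKrullDim_quotient]
        exact Order.krullDim_le_of_strictMono (fun Q => ⟨Q.1, Module.mem_support_mono Q.2 hP⟩)
          fun x y h => h
      rw [he, hd] at h1
      exact_mod_cast h1
    rw [Module.support_eq_zeroLocus] at hP hmin
    obtain ⟨-, f, hf⟩ := (isAssociatedPrime_iff_exists_injective_linearMap _ _).1
      (Module.associatedPrimes.minimalPrimes_annihilator_subset_associatedPrimes B Mq
        (show P.asIdeal ∈ (Module.annihilator B Mq).minimalPrimes from
          ⟨⟨P.isPrime, hP⟩, fun r hr hrP => (congrArg PrimeSpectrum.asIdeal (hmin ⟨r, hr.1⟩ hr.2 hrP)).ge⟩))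
    have h1 := nontrivial_localized_of_injective hnB a hB.finite_cohomology Mq P f hf
    rw [hclosed] at he'
    rw [show nB P = n q - (d : ℤ) by omega] at h1
    refine @Equiv.nontrivial _ _ e.symm ?_
    by_contra hcon
    rw [not_nontrivial_iff_subsingleton] at hcon
    exact not_subsingleton (LocalizedModule P.asIdeal.primeCompl
        (Dual.inD B Mq ⟶ ((DTen.LBase (algebraMap A B)).obj ω)⟦n q - (d : ℤ)⟧))
      (LocalizedModule.subsingleton_iff.2 fun φ => ⟨1, one_mem _, Subsingleton.elim _ _⟩)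

/-- Failure of Serre's condition at a prime. -/
def Fail (k : ℕ) (q : PrimeSpectrum A) : Prop :=
  ∃ d δ : ℕ, Module.supportDim (Localization.AtPrime q.asIdeal) (LocalizedModule q.asIdeal.primeCompl M) = d ∧
    LocCoh.depth (Localization.AtPrime q.asIdeal) (LocalizedModule q.asIdeal.primeCompl M) = δ ∧ δ < d ∧ δ < k

omit [IsNoetherianRing A] [Module.Finite A M] in
theorem fail_iff {k d δ : ℕ} {q : PrimeSpectrum A}
    (hd : Module.supportDim (Localization.AtPrime q.asIdeal) (LocalizedModule q.asIdeal.primeCompl M) = d)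
    (hδ : LocCoh.depth (Localization.AtPrime q.asIdeal) (LocalizedModule q.asIdeal.primeCompl M) = δ) :
    Fail M k q ↔ δ < d ∧ δ < k := by
  refine ⟨?_, fun h => ⟨d, δ, hd, hδ, h⟩⟩
  rintro ⟨d', δ', hd', hδ', h⟩
  obtain rfl : d' = d := by exact_mod_cast hd'.symm.trans hd
  obtain rfl : δ' = δ := by exact_mod_cast hδ'.symm.trans hδ
  exact h

/-- The condition at one prime. -/
theorem le_depth_iff_not_fail (hω : Dual.IsDualizing A ω) {n : PrimeSpectrum A → ℤ} (hn : IsExtDegree ω n)
    (k : ℕ) (q : PrimeSpectrum A) :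
    (min (k : WithBot ℕ∞)
        (Module.supportDim (Localization.AtPrime q.asIdeal) (LocalizedModule q.asIdeal.primeCompl M)) ≤
      ((LocCoh.depth (Localization.AtPrime q.asIdeal) (LocalizedModule q.asIdeal.primeCompl M) : ℕ∞) : WithBot ℕ∞)) ↔
      ¬ Fail M k q := by
  by_cases hq : q ∈ Module.support A M
  · obtain ⟨d, δ, hd, hδ, -⟩ := ext_range M hω hn q hq
    rw [fail_iff M hd hδ, hd, hδ, ← Nat.mono_cast.map_min]
    norm_cast
    omega
  · haveI : Subsingleton (LocalizedModule q.asIdeal.primeCompl M) := Module.notMem_support_iff.1 hq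
    rw [Module.supportDim_eq_bot_of_subsingleton]
    refine iff_of_true (by simp) ?_
    rintro ⟨d, δ, hd, -⟩
    rw [Module.supportDim_eq_bot_of_subsingleton] at hd
    exact absurd hd.symm (by simp)

theorem hasSk_iff_not_fail (hω : Dual.IsDualizing A ω) {n : PrimeSpectrum A → ℤ} (hn : IsExtDegree ω n)
    (k : ℕ) : LocCoh.HasSk k A M ↔ ∀ q : PrimeSpectrum A, ¬ Fail M k q :=
  ⟨fun h q => (le_depth_iff_not_fail M hω hn k q).1 (h q.asIdeal),
    fun h p hp => (le_depth_iff_not_fail M hω hn k ⟨p, hp⟩).2 (h _)⟩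

/-- Serre's condition by the supports of the Ext modules. -/
theorem hasSk_iff_supports (hω : Dual.IsDualizing A ω) (k : ℕ) :
    LocCoh.HasSk k A M ↔
      ∀ (i j : ℤ), j < i → ∀ p : PrimeSpectrum A,
        p ∈ Module.support A (Dual.inD A M ⟶ ω⟦i⟧) → p ∈ Module.support A (Dual.inD A M ⟶ ω⟦j⟧) →
          (((k : ℤ) + i - j).toNat : WithBot ℕ∞) ≤
            Module.supportDim (Localization.AtPrime p.asIdeal) (LocalizedModule p.asIdeal.primeCompl M) := by
  obtain ⟨n, hn, -⟩ := exists_extDegree hω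
  rw [hasSk_iff_not_fail M hω hn]
  constructor
  · intro h i j hij p hpi hpj
    obtain ⟨d, δ, hd, hδ, hr, -⟩ := ext_range M hω hn p (support_hom_subset M _ hpi)
    have := h p
    rw [fail_iff M hd hδ] at this
    have := hr i hpi
    have := hr j hpj
    rw [hd]
    exact_mod_cast (show ((k : ℤ) + i - j).toNat ≤ d by omega)
  · intro h q hF
    obtain ⟨d', δ', hd', hδ', h1, h2⟩ := hF
    have hq : q ∈ Module.support A M := by
      by_contra hq
      haveI : Subsingleton (LocalizedModule q.asIdeal.primeCompl M) := Module.notMem_support_iff.1 hq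
      rw [Module.supportDim_eq_bot_of_subsingleton] at hd'
      exact absurd hd'.symm (by simp)
    obtain ⟨d, δ, hd, hδ, -, hmd, hmδ⟩ := ext_range M hω hn q hq
    obtain rfl : d' = d := by exact_mod_cast hd'.symm.trans hd
    obtain rfl : δ' = δ := by exact_mod_cast hδ'.symm.trans hδ
    have := h (n q - δ') (n q - d') (by omega) q hmδ hmd
    rw [hd] at this
    have : ((k : ℤ) + (n q - δ') - (n q - d')).toNat ≤ d' := by exact_mod_cast this
    omega

/-- The criterion when the degree of a prime is minus the dimension of its quotient. -/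
theorem hasSk_iff_supportDim_of_degree (hω : Dual.IsDualizing A ω) {n : PrimeSpectrum A → ℤ}
    (hn : IsExtDegree ω n) (hle : ∀ P, n P ≤ 0)
    (hdim : ∀ P : PrimeSpectrum A, ∃ e : ℕ, ringKrullDim (A ⧸ P.asIdeal) = (e : WithBot ℕ∞) ∧ (e : ℤ) = -n P)
    (hM : EGA4.IsEquidimModule A M) (δ₀ : ℕ) (hδ₀ : Module.supportDim A M = δ₀) (k : ℕ) :
    LocCoh.HasSk k A M ↔
      ∀ j : ℤ, j ≠ -(δ₀ : ℤ) →
        (-j - (k : ℤ) < 0 → Subsingleton (Dual.inD A M ⟶ ω⟦j⟧)) ∧
        (0 ≤ -j - (k : ℤ) → Module.supportDim A (Dual.inD A M ⟶ ω⟦j⟧) ≤ ((-j - (k : ℤ)).toNat : WithBot ℕ∞)) := by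
  obtain ⟨a, b, -, _, _⟩ := exists_bounds_of_isDualizing hω
  -- the bottom degree is the same at every prime of the support
  have hbot : ∀ q : PrimeSpectrum A, q ∈ Module.support A M → ∃ d δ : ℕ,
      Module.supportDim (Localization.AtPrime q.asIdeal) (LocalizedModule q.asIdeal.primeCompl M) = d ∧
      LocCoh.depth (Localization.AtPrime q.asIdeal) (LocalizedModule q.asIdeal.primeCompl M) = δ ∧
      n q - d = -(δ₀ : ℤ) ∧
      (∀ i : ℤ, q ∈ Module.support A (Dual.inD A M ⟶ ω⟦i⟧) → n q - d ≤ i ∧ i ≤ n q - δ) ∧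
      q ∈ Module.support A (Dual.inD A M ⟶ ω⟦n q - (δ : ℤ)⟧) := by
    intro q hq
    obtain ⟨d, δ, hd, hδ, hr, hmd, hmδ⟩ := ext_range M hω hn q hq
    refine ⟨d, δ, hd, hδ, le_antisymm ?_ ?_, hr, hmδ⟩
    · have hann : Module.annihilator A M ≤ q.asIdeal := by
        rw [Module.support_eq_zeroLocus] at hq
        exact hq
      obtain ⟨p, hp, hpq⟩ := Ideal.exists_minimalPrimes_le hann
      haveI := hp.1.1
      obtain ⟨-, f, hf⟩ := (isAssociatedPrime_iff_exists_injective_linearMap _ _).1
        (Module.associatedPrimes.minimalPrimes_annihilator_subset_associatedPrimes A M hp)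
      have h1 := nontrivial_localized_of_injective hn a hω.finite_cohomology M ⟨p, inferInstance⟩ f hf
      obtain ⟨e, he, he'⟩ := hdim ⟨p, inferInstance⟩
      have he0 : e = δ₀ := by
        have := hM p hp
        rw [he, hδ₀] at this
        exact_mod_cast this
      rw [show n ⟨p, inferInstance⟩ = -(δ₀ : ℤ) by omega] at h1
      exact (hr _ (Module.mem_support_mono (p := ⟨p, inferInstance⟩) hpq (Module.mem_support_iff.2 h1))).1
    · by_contra hcon
      refine absurd hmd (by
        haveI := subsingleton_hom_module_of_lt hn M (n q - d) fun P hP => by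
          obtain ⟨e, he, he'⟩ := hdim P
          have h1 : ringKrullDim (A ⧸ P.asIdeal) ≤ Module.supportDim A M := by
            rw [ringKrullDim_quotient]
            exact Order.krullDim_le_of_strictMono (fun Q => ⟨Q.1, Module.mem_support_mono Q.2 hP⟩)
              fun x y h => h
          rw [he, hδ₀] at h1
          have h2 : e ≤ δ₀ := by exact_mod_cast h1
          omega
        rw [Module.support_eq_empty]
        exact Set.notMem_empty q)
  rw [hasSk_iff_not_fail M hω hn]
  constructor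
  · intro h j hj
    have key : ∀ p : PrimeSpectrum A, p ∈ Module.support A (Dual.inD A M ⟶ ω⟦j⟧) →
        j + k ≤ n p := by
      intro p hp
      obtain ⟨d, δ, hd, hδ, he, hr, -⟩ := hbot p (support_hom_subset M _ hp)
      have := h p
      rw [fail_iff M hd hδ] at this
      have := hr j hp
      omega
    refine ⟨fun hneg => ?_, fun hnn => ?_⟩
    · rw [← Module.support_eq_empty_iff (R := A), Set.eq_empty_iff_forall_notMem]
      intro p hp
      have := key p hp
      have := hle p
      omega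
    · refine iSup_le fun s => ?_
      obtain ⟨e, he, he'⟩ := hdim s.head.1
      have := key s.head.1 s.head.2
      have h1 : (s.length : WithBot ℕ∞) ≤ e := by
        rw [← he, ringKrullDim_quotient]
        let t : LTSeries (PrimeSpectrum.zeroLocus (R := A) (s.head.1.asIdeal : Set A)) :=
          { length := s.length
            toFun := fun i => ⟨(s i).1, show s.head.1.asIdeal ≤ (s i).1.asIdeal from s.monotone (Fin.zero_le i)⟩
            step := fun i => s.step i }
        exact le_iSup (fun z : LTSeries _ => ((z.length : ℕ∞) : WithBot ℕ∞)) t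
      have h2 : s.length ≤ e := by exact_mod_cast h1
      exact_mod_cast (show s.length ≤ (-j - (k : ℤ)).toNat by omega)
  · intro h q hF
    obtain ⟨d', δ', hd', hδ', h1, h2⟩ := hF
    have hq : q ∈ Module.support A M := by
      by_contra hq
      haveI : Subsingleton (LocalizedModule q.asIdeal.primeCompl M) := Module.notMem_support_iff.1 hq
      rw [Module.supportDim_eq_bot_of_subsingleton] at hd'
      exact absurd hd'.symm (by simp)
    obtain ⟨d, δ, hd, hδ, he, -, hmδ⟩ := hbot q hq
    obtain rfl : d' = d := by exact_mod_cast hd'.symm.trans hd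
    obtain rfl : δ' = δ := by exact_mod_cast hδ'.symm.trans hδ
    obtain ⟨hneg, hnn⟩ := h (n q - δ') (by omega)
    obtain ⟨e, hee, he'⟩ := hdim q
    by_cases hs : -(n q - (δ' : ℤ)) - (k : ℤ) < 0
    · haveI := hneg hs
      rw [Module.support_eq_empty] at hmδ
      exact hmδ
    · have h3 : ringKrullDim (A ⧸ q.asIdeal) ≤ Module.supportDim A (Dual.inD A M ⟶ ω⟦n q - (δ' : ℤ)⟧) := by
        rw [ringKrullDim_quotient]
        exact Order.krullDim_le_of_strictMono (fun Q => ⟨Q.1, Module.mem_support_mono Q.2 hmδ⟩)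
          fun x y h => h
      have h4 := h3.trans (hnn (by omega))
      rw [hee] at h4
      have h5 : e ≤ (-(n q - (δ' : ℤ)) - (k : ℤ)).toNat := by exact_mod_cast h4
      omega

/-- For an equidimensional module over a local ring the conditions are on the dimensions of the Ext. -/
theorem hasSk_iff_supportDim [IsLocalRing A] (hω : Dual.IsDualizing A ω) (hN : Dual.IsNormalized A ω)
    (hM : EGA4.IsEquidimModule A M) (δ₀ : ℕ) (hδ₀ : Module.supportDim A M = δ₀) (k : ℕ) :
    LocCoh.HasSk k A M ↔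
      ∀ j : ℤ, j ≠ -(δ₀ : ℤ) →
        (-j - (k : ℤ) < 0 → Subsingleton (Dual.inD A M ⟶ ω⟦j⟧)) ∧
        (0 ≤ -j - (k : ℤ) → Module.supportDim A (Dual.inD A M ⟶ ω⟦j⟧) ≤ ((-j - (k : ℤ)).toNat : WithBot ℕ∞)) := by
  obtain ⟨n, hn, -, -, hle, hdim⟩ := exists_normalized_degree hω hN
  exact hasSk_iff_supportDim_of_degree M hω hn hle hdim hM δ₀ hδ₀ k

/-- When the degree vanishes at every maximal ideal it is minus the dimension of the quotient. -/
theorem exists_degree_of_normalized_at_maximal (hω : Dual.IsDualizing A ω)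
    (hnorm : ∀ (m : Ideal A) (_ : m.IsMaximal) (i : ℤ), i ≠ 0 → Subsingleton (Dual.inD A (A ⧸ m) ⟶ ω⟦i⟧)) :
    ∃ n : PrimeSpectrum A → ℤ, IsExtDegree ω n ∧ (∀ P, n P ≤ 0) ∧
      ∀ P : PrimeSpectrum A, ∃ e : ℕ, ringKrullDim (A ⧸ P.asIdeal) = (e : WithBot ℕ∞) ∧ (e : ℤ) = -n P := by
  obtain ⟨n, hn, hcov, hmono, -⟩ := exists_extDegree hω
  have hmax : ∀ P : PrimeSpectrum A, ∃ m : PrimeSpectrum A, P ≤ m ∧ n m = 0 := by
    intro P
    obtain ⟨m, hm, hPm⟩ := P.asIdeal.exists_le_maximal P.isPrime.ne_top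
    refine ⟨⟨m, hm.isPrime⟩, hPm, by_contra fun hne => ?_⟩
    haveI := (hn ⟨m, hm.isPrime⟩ _).2 rfl
    haveI := hnorm m hm _ hne
    exact not_subsingleton (LocalizedModule m.primeCompl (Dual.inD A (A ⧸ m) ⟶ ω⟦n ⟨m, hm.isPrime⟩⟧))
      (LocalizedModule.subsingleton_iff.2 fun φ => ⟨1, one_mem _, Subsingleton.elim _ _⟩)
  have hle : ∀ P, n P ≤ 0 := by
    intro P
    obtain ⟨m, hPm, hm⟩ := hmax P
    have := hmono.monotone hPm
    omega
  refine ⟨n, hn, hle, fun P => ?_⟩
  obtain ⟨m, hPm, hm⟩ := hmax P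
  obtain ⟨l, hl1, -, hl3⟩ := exists_chain_of_le hcov _ m rfl P hPm
  refine ⟨l.length, le_antisymm ?_ ?_, by omega⟩
  · rw [ringKrullDim_quotient]
    refine iSup_le fun s => ?_
    have h1 : ∀ k : ℕ, ∀ hk : k < s.length + 1, n P + k ≤ n (s ⟨k, hk⟩).1 := by
      intro k
      induction k with
      | zero =>
        intro hk
        have h0 : P ≤ (s ⟨0, hk⟩).1 := (s ⟨0, hk⟩).2
        have := hmono.monotone h0
        simpa using this
      | succ k ih =>
        intro hk
        have h2 := ih (by omega)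
        have h3 := hmono (s.step ⟨k, by omega⟩)
        simp only [Fin.castSucc_mk, Fin.succ_mk] at h3
        push_cast
        omega
    have h2 := h1 s.length (by omega)
    have h3 := hle (s ⟨s.length, by omega⟩).1
    exact_mod_cast (show s.length ≤ l.length by omega)
  · rw [ringKrullDim_quotient]
    let t : LTSeries (PrimeSpectrum.zeroLocus (R := A) (P.asIdeal : Set A)) :=
      { length := l.length
        toFun := fun i => ⟨l i, show P.asIdeal ≤ (l i).asIdeal from hl1.trans (l.monotone (Fin.zero_le i))⟩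
        step := fun i => l.step i }
    exact le_iSup (fun z : LTSeries _ => ((z.length : ℕ∞) : WithBot ℕ∞)) t

/-- The criterion for the ring, with the cohomology of the dualizing complex. -/
theorem hasSk_self_iff (hω : Dual.IsDualizing A ω)
    (hnorm : ∀ (m : Ideal A) (_ : m.IsMaximal) (i : ℤ), i ≠ 0 → Subsingleton (Dual.inD A (A ⧸ m) ⟶ ω⟦i⟧))
    (hEq : EGA4.IsEquidim A) (d : ℕ) (hd : ringKrullDim A = d) :
    (∀ i : ℕ, d < i → Subsingleton (Dual.HD A ω (-(i : ℤ)))) ∧
    ∀ k : ℕ, (LocCoh.HasSk k A A ↔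
        ∀ i : ℕ, i ≠ d →
          (i < k → Subsingleton (Dual.HD A ω (-(i : ℤ)))) ∧
          (k ≤ i → Module.supportDim A (Dual.HD A ω (-(i : ℤ))) ≤ ((i - k : ℕ) : WithBot ℕ∞))) := by
  obtain ⟨n, hn, hle, hdim⟩ := exists_degree_of_normalized_at_maximal hω hnorm
  obtain ⟨a, b, -, _, _⟩ := exists_bounds_of_isDualizing hω
  have hδ₀ : Module.supportDim A A = d := by rw [Module.supportDim_self_eq_ringKrullDim, hd]
  have hM : EGA4.IsEquidimModule A A := by
    intro p hp
    rw [Module.annihilator_eq_bot.2 inferInstance] at hp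
    rw [hEq p hp, hδ₀, hd]
  have hcrit := fun k => hasSk_iff_supportDim_of_degree A hω hn hle hdim hM d hδ₀ k
  have hlow : ∀ j : ℤ, j < -(d : ℤ) → Subsingleton (Dual.inD A A ⟶ ω⟦j⟧) := fun j hj =>
    subsingleton_hom_module_of_lt hn A j fun P _ => by
      obtain ⟨e, he, he'⟩ := hdim P
      have h1 := ringKrullDim_quotient_le P.asIdeal
      rw [he, hd] at h1
      have h2 : e ≤ d := by exact_mod_cast h1
      omega
  have hhigh : ∀ j : ℤ, 0 < j → Subsingleton (Dual.inD A A ⟶ ω⟦j⟧) := by
    intro j hj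
    rw [← Module.support_eq_empty_iff (R := A), Set.eq_empty_iff_forall_notMem]
    intro q hq
    have := le_extDegree_of_mem_support hn a hω.finite_cohomology A j hq
    have := hle q
    omega
  have hsub : ∀ j : ℤ, (Subsingleton (Dual.inD A A ⟶ ω⟦j⟧) ↔ Subsingleton (Dual.HD A ω j)) := fun j => by
    obtain ⟨e⟩ := exists_homRingLEquiv ω j
    exact e.toEquiv.subsingleton_congr
  have hsd : ∀ j : ℤ, Module.supportDim A (Dual.inD A A ⟶ ω⟦j⟧) = Module.supportDim A (Dual.HD A ω j) := fun j => by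
    obtain ⟨e⟩ := exists_homRingLEquiv ω j
    exact Module.supportDim_eq_of_equiv e
  refine ⟨fun i hi => (hsub _).1 (hlow _ (by omega)), fun k => (hcrit k).trans ⟨fun h i hi => ?_, fun h j hj => ?_⟩⟩
  · obtain ⟨h1, h2⟩ := h (-(i : ℤ)) (by omega)
    refine ⟨fun hik => (hsub _).1 (h1 (by omega)), fun hki => ?_⟩
    rw [← hsd]
    have h3 := h2 (by omega)
    rwa [show (-(-(i : ℤ)) - (k : ℤ)).toNat = i - k by omega] at h3
  · by_cases h0 : 0 < j
    · haveI := hhigh j h0
      exact ⟨fun _ => inferInstance, fun _ => by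
        rw [Module.supportDim_eq_bot_of_subsingleton]; exact bot_le⟩
    obtain ⟨i, rfl⟩ : ∃ i : ℕ, j = -(i : ℤ) := ⟨(-j).toNat, by omega⟩
    obtain ⟨h1, h2⟩ := h i (by omega)
    refine ⟨fun hik => (hsub _).2 (h1 (by omega)), fun hki => ?_⟩
    rw [hsd, show (-(-(i : ℤ)) - (k : ℤ)).toNat = i - k by omega]
    exact h2 (by omega)

/-- The locus of Serre's condition is open. -/
theorem isOpen_hasSkAt (hω : Dual.IsDualizing A ω) (k : ℕ) :
    IsOpen {p : PrimeSpectrum A | EGA4.HasSkAt k A M p.asIdeal} := by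
  obtain ⟨n, hn, hcov, hmono, -⟩ := exists_extDegree hω
  obtain ⟨a, -, -, _, _⟩ := exists_bounds_of_isDualizing hω
  obtain ⟨lo, hi, hb⟩ := hω.finite_injective_dimension
  let Ann : ℤ → Ideal A := fun i => Module.annihilator A (Dual.inD A M ⟶ ω⟦i⟧)
  have hfin : ∀ i, Module.Finite A (Dual.inD A M ⟶ ω⟦i⟧) := fun i =>
    finite_hom_module ω a hω.finite_cohomology M i
  have hz : ∀ i (q : PrimeSpectrum A), q ∈ Module.support A (Dual.inD A M ⟶ ω⟦i⟧) ↔ Ann i ≤ q.asIdeal :=
    fun i q => by haveI := hfin i; exact Module.mem_support_iff_of_finite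
  have hmem : ∀ i (q : PrimeSpectrum A), q ∈ Module.support A (Dual.inD A M ⟶ ω⟦i⟧) → i ∈ Finset.Icc lo hi := by
    intro i q hq
    rw [Finset.mem_Icc]
    by_contra hc
    haveI := hb M i (by omega)
    rw [Module.support_eq_empty] at hq
    exact hq
  let S : Set (PrimeSpectrum A) := {P | Fail M k P ∧
    ∃ i ∈ Finset.Icc lo hi, ∃ j ∈ Finset.Icc lo hi, P.asIdeal ∈ (Ann i ⊔ Ann j).minimalPrimes}
  have hS : S.Finite := by
    refine Set.Finite.subset (Set.Finite.preimage (f := PrimeSpectrum.asIdeal)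
      (Set.injOn_of_injective fun a b => PrimeSpectrum.ext)
      (Set.Finite.biUnion (Finset.Icc lo hi).finite_toSet fun i _ =>
        Set.Finite.biUnion (Finset.Icc lo hi).finite_toSet fun j _ =>
          Ideal.finite_minimalPrimes_of_isNoetherianRing A (Ann i ⊔ Ann j))) ?_
    rintro P ⟨-, i, hi', j, hj', hP⟩
    exact Set.mem_biUnion hi' (Set.mem_biUnion hj' hP)
  have key : ∀ q : PrimeSpectrum A, Fail M k q → ∃ P ∈ S, P ≤ q := by
    intro q hF
    have hq : q ∈ Module.support A M := by
      by_contra hq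
      obtain ⟨d', δ', hd', -⟩ := hF
      haveI : Subsingleton (LocalizedModule q.asIdeal.primeCompl M) := Module.notMem_support_iff.1 hq
      rw [Module.supportDim_eq_bot_of_subsingleton] at hd'
      exact absurd hd'.symm (by simp)
    obtain ⟨d, δ, hd, hδ, hr, hmd, hmδ⟩ := ext_range M hω hn q hq
    rw [fail_iff M hd hδ] at hF
    obtain ⟨p, hp, hpq⟩ := Ideal.exists_minimalPrimes_le
      (sup_le ((hz _ q).1 hmδ) ((hz _ q).1 hmd))
    let P : PrimeSpectrum A := ⟨p, hp.1.1⟩
    have hPi := (hz (n q - δ) P).2 (le_sup_left.trans hp.1.2)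
    have hPj := (hz (n q - d) P).2 (le_sup_right.trans hp.1.2)
    obtain ⟨dP, δP, hdP, hδP, hrP, hmdP, -⟩ := ext_range M hω hn P (support_hom_subset M _ hPi)
    have := hrP _ hPi
    have := hrP _ hPj
    have := (hr _ (Module.mem_support_mono (p := P) hpq hmdP)).1
    have : n P ≤ n q := hmono.monotone (show P ≤ q from hpq)
    exact ⟨P, ⟨(fail_iff M hdP hδP).2 (by omega), _, hmem _ q hmδ, _, hmem _ q hmd, hp⟩, hpq⟩
  have hset : {p : PrimeSpectrum A | EGA4.HasSkAt k A M p.asIdeal} =
      (⋃ P ∈ S, PrimeSpectrum.zeroLocus (P.asIdeal : Set A))ᶜ := by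
    ext p
    simp only [Set.mem_ofPred_eq, Set.mem_compl_iff, Set.mem_iUnion, not_exists, EGA4.HasSkAt]
    erw [Alg6.hasSk_localization_iff]
    constructor
    · intro h P hP hmem'
      exact (le_depth_iff_not_fail M hω hn k P).1
        (h P.asIdeal ((Alg6.disjoint_primeCompl_iff _ _).mpr hmem')) hP.1
    · intro h q _ hq
      refine (le_depth_iff_not_fail M hω hn k ⟨q, ‹_›⟩).2 fun hF => ?_
      obtain ⟨P, hP, hPq⟩ := key _ hF
      exact h P hP (hPq.trans ((Alg6.disjoint_primeCompl_iff _ _).mp hq))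
  rw [hset, isOpen_compl_iff]
  exact hS.isClosed_biUnion fun q _ => PrimeSpectrum.isClosed_zeroLocus _

end Groth.Agent.QGor6.SkDual
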